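import Groth.Prelude.Def_FDesc
import Groth.Agent.AlgSpD.HasAt
import Groth.Agent.AlgSpD.ReducedEtale
import Groth.Agent.GeomLoc.Reduced
import Groth.Agent.S1545
import Groth.Agent.AlgSpCov.Sheaf
import Groth.Agent.AlgSpD.BaseChangeChart

/-!
# Geometric reducedness on etale charts of algebraic spaces over a field

* `isGeomReducedAt_etale_iff`: invariance along etale morphisms of schemes over `k`;
* `gr_iff_chart`: some chart and all charts agree;
* `exists_prodChart`: the chart `U ×_S T` of `X × h_T`;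
* `isGeomReducedAt_tower_iff`: change of the base field.
-/

set_option autoImplicit false
set_option backward.isDefEq.respectTransparency false

universe u

open CategoryTheory CategoryTheory.Limits AlgebraicGeometry

namespace Groth.Agent.GeomRedSp

open Groth.Agent

theorem isGeomReducedAt_etale_iff {k : Type u} [Field k] {U V : Scheme.{u}} (g : U ⟶ V) [Etale g]
    (h : V ⟶ Spec (CommRingCat.of k)) (h' : U ⟶ Spec (CommRingCat.of k)) (w : g ≫ h = h') (u : ↥U) :
    FBase.IsGeomReducedAt h' u ↔ FBase.IsGeomReducedAt h (g u) := by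
  subst w
  have key : ∀ (K : Type u) [Field K] [Algebra k K], ∃ φ : FBase.bc (g ≫ h) K ⟶ FBase.bc h K,
      IsPullback (FBase.bcπ (g ≫ h) K) φ g (FBase.bcπ h K) := by
    intro K _ _
    let φ : FBase.bc (g ≫ h) K ⟶ FBase.bc h K := pullback.lift (FBase.bcπ (g ≫ h) K ≫ g)
      (FBase.bcStr (g ≫ h) K) (by rw [Category.assoc]; exact pullback.condition)
    refine ⟨φ, IsPullback.of_bot ?_ (pullback.lift_fst _ _ _).symm
      (IsPullback.of_hasPullback h (Spec.map (CommRingCat.ofHom (algebraMap k K))))⟩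
    have : φ ≫ pullback.snd h (Spec.map (CommRingCat.ofHom (algebraMap k K))) = FBase.bcStr (g ≫ h) K :=
      pullback.lift_snd _ _ _
    rw [this]
    exact IsPullback.of_hasPullback _ _
  constructor
  · intro hu K _ _ y hy
    obtain ⟨φ, sq⟩ := key K
    obtain ⟨z, hz1, hz2⟩ := Scheme.Pullback.exists_preimage_pullback (f := g) (g := FBase.bcπ h K) u y
      hy.symm
    have hz1' : (FBase.bcπ (g ≫ h) K) (sq.isoPullback.inv z) = u := by
      rw [← Scheme.Hom.comp_apply, IsPullback.isoPullback_inv_fst]; exact hz1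
    have hz2' : φ (sq.isoPullback.inv z) = y := by
      rw [← Scheme.Hom.comp_apply, IsPullback.isoPullback_inv_snd]; exact hz2
    have : Etale φ := MorphismProperty.of_isPullback (P := @Etale) sq inferInstance
    rw [← hz2']
    exact (AlgSpD.isReduced_stalk_iff φ _).1 (hu K _ hz1')
  · intro hv K _ _ x' hx'
    obtain ⟨φ, sq⟩ := key K
    have : Etale φ := MorphismProperty.of_isPullback (P := @Etale) sq inferInstance
    refine (AlgSpD.isReduced_stalk_iff φ x').2 (hv K _ ?_)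
    show (FBase.bcπ h K) (φ x') = _
    rw [← Scheme.Hom.comp_apply, ← sq.w, Scheme.Hom.comp_apply]
    exact congrArg g hx'

section Space

variable {k : Type u} [Field k]

local notation "Sk" => Spec (CommRingCat.of k)

/-- Geometrically reduced at a point, read on some chart. -/
def GR {F : AlgSp.Sp Sk} (x : AlgSp.Points F) : Prop :=
  ∃ (U : Over Sk) (a : (AlgSp.yon Sk).obj U ⟶ F) (u : ↥U.left),
    AlgSp.RepWith @Etale a ∧ AlgSp.Points.ofPt a u = x ∧ FBase.IsGeomReducedAt U.hom u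

theorem isGeomReducedAt_over_iff {U V : Over Sk} (g : U ⟶ V) [Etale g.left] (u : ↥U.left) :
    FBase.IsGeomReducedAt U.hom u ↔ FBase.IsGeomReducedAt V.hom (g.left u) :=
  isGeomReducedAt_etale_iff g.left V.hom U.hom (Over.w g) u

theorem gr_iff_chart {F : AlgSp.Sp Sk} {U : Over Sk} {a : (AlgSp.yon Sk).obj U ⟶ F}
    (ha : AlgSp.RepWith @Etale a) (u : ↥U.left) :
    GR (AlgSp.Points.ofPt a u) ↔ FBase.IsGeomReducedAt U.hom u := by
  refine ⟨?_, fun h => ⟨U, a, u, ha, rfl, h⟩⟩
  rintro ⟨V, b, v, hb, e, hv⟩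
  obtain ⟨W, p, q, w, -, hp, hq, hwp, hwq⟩ := AlgSpD.exists_common_chart hb ha e
  rw [← hwq]
  rw [← hwp] at hv
  exact (isGeomReducedAt_over_iff q w).1 ((isGeomReducedAt_over_iff p w).2 hv)

theorem gr_iff_forall (X : AlgSp.Space Sk) (x : AlgSp.Points X.obj) :
    GR x ↔ ∀ (U : Over Sk) (a : (AlgSp.yon Sk).obj U ⟶ X.obj) (u : ↥U.left),
      AlgSp.RepWith @Etale a → AlgSp.Points.ofPt a u = x → FBase.IsGeomReducedAt U.hom u := by
  refine ⟨fun h U a u ha hu => (gr_iff_chart ha u).1 (hu ▸ h), fun h => ?_⟩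
  obtain ⟨U, a, u, ha, hu⟩ := AlgSpD.exists_chart X x
  exact ⟨U, a, u, ha, hu, h U a u ha hu⟩

theorem forall_gr_iff {F : AlgSp.Sp Sk} {U : Over Sk} {a : (AlgSp.yon Sk).obj U ⟶ F}
    (ha : AlgSp.RepWith @Etale a) (hs : AlgSp.RepWith @Surjective a) :
    (∀ x : AlgSp.Points F, GR x) ↔ ∀ u : ↥U.left, FBase.IsGeomReducedAt U.hom u := by
  refine ⟨fun h u => (gr_iff_chart ha u).1 (h _), fun h x => ?_⟩
  obtain ⟨u, rfl⟩ := AlgSpB.surjective_ofPt hs x
  exact (gr_iff_chart ha u).2 (h u)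

theorem etaleLocally_isReduced_iff {F : AlgSp.Sp Sk} {U : Over Sk} {a : (AlgSp.yon Sk).obj U ⟶ F}
    (ha : AlgSp.RepWith @Etale a) (hs : AlgSp.RepWith @Surjective a) :
    AlgSp.EtaleLocally (fun T => IsReduced T) F ↔ ∀ u : ↥U.left, _root_.IsReduced (U.left.presheaf.stalk u) := by
  constructor
  · rintro ⟨V, b, hb, hbs, (hV : IsReduced V.left)⟩ u
    obtain ⟨v, hv⟩ := AlgSpB.surjective_ofPt hbs (AlgSp.Points.ofPt a u)
    obtain ⟨W, p, q, w, -, hp, hq, hwp, hwq⟩ := AlgSpD.exists_common_chart hb ha hv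
    rw [← hwq]
    exact (AlgSpD.isReduced_stalk_iff q.left w).1 ((AlgSpD.isReduced_stalk_iff p.left w).2 inferInstance)
  · intro h
    exact ⟨U, a, ha, hs, isReduced_of_isReduced_stalk U.left⟩

/-- The chart `U ×_S T` of `X × h_T`. -/
theorem exists_prodChart {S : Scheme.{u}} {X : AlgSp.Sp S} {U T : Over S} {a : (AlgSp.yon S).obj U ⟶ X}
    (ha : AlgSp.RepWith @Etale a) :
    ∃ (W : Over S) (p : W ⟶ U) (q : W ⟶ T) (d : (AlgSp.yon S).obj W ⟶ X ⨯ (AlgSp.yon S).obj T),
      AlgSp.RepWith @Etale d ∧ IsPullback p.left q.left U.hom T.hom ∧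
        d ≫ Limits.prod.snd = (AlgSp.yon S).map q ∧
        IsPullback ((AlgSp.yon S).map p) d a Limits.prod.fst := by
  let W : Over S := Over.mk (pullback.fst U.hom T.hom ≫ U.hom)
  let p : W ⟶ U := Over.homMk (pullback.fst U.hom T.hom) rfl
  let q : W ⟶ T := Over.homMk (pullback.snd U.hom T.hom) pullback.condition.symm
  let tU : U ⟶ Over.mk (𝟙 S) := Over.homMk U.hom (Category.comp_id _)
  let tT : T ⟶ Over.mk (𝟙 S) := Over.homMk T.hom (Category.comp_id _)
  have sqO : IsPullback p q tU tT :=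
    IsPullback.of_map (Over.forget S) (by ext; exact pullback.condition) (IsPullback.of_hasPullback U.hom T.hom)
  have sqY := sqO.map (AlgSp.yon S)
  have ht : IsTerminal ((AlgSp.yon S).obj (Over.mk (𝟙 S))) := Over.mkIdTerminal.isTerminalObj _ _
  let d : (AlgSp.yon S).obj W ⟶ X ⨯ (AlgSp.yon S).obj T :=
    Limits.prod.lift ((AlgSp.yon S).map p ≫ a) ((AlgSp.yon S).map q)
  have sq : IsPullback ((AlgSp.yon S).map p) d a Limits.prod.fst := by
    refine IsPullback.of_bot (v₂₁ := Limits.prod.snd) (v₂₂ := ht.from X)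
      (h₃₁ := (AlgSp.yon S).map tT) ?_ (Limits.prod.lift_fst _ _).symm
      (IsPullback.of_is_product' (Limits.prodIsProd X ((AlgSp.yon S).obj T)) ht |>.of_iso
        (Iso.refl _) (Iso.refl _) (Iso.refl _) (Iso.refl _) (by simp) (by simp) (ht.hom_ext _ _) (ht.hom_ext _ _))
    rw [show d ≫ Limits.prod.snd = (AlgSp.yon S).map q from Limits.prod.lift_snd _ _,
      show a ≫ ht.from X = (AlgSp.yon S).map tU from ht.hom_ext _ _]
    exact sqY
  exact ⟨W, p, q, d, AlgSpCov.repWith_bc sq ha, IsPullback.of_hasPullback _ _, Limits.prod.lift_snd _ _, sq⟩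

theorem exists_point_prodChart {S : Scheme.{u}} {X : AlgSp.Sp S} {U T W : Over S}
    {a : (AlgSp.yon S).obj U ⟶ X} {p : W ⟶ U} {d : (AlgSp.yon S).obj W ⟶ X ⨯ (AlgSp.yon S).obj T}
    (sq : IsPullback ((AlgSp.yon S).map p) d a Limits.prod.fst) (u : ↥U.left)
    (x' : AlgSp.Points (X ⨯ (AlgSp.yon S).obj T))
    (hx : AlgSp.Points.map Limits.prod.fst x' = AlgSp.Points.ofPt a u) :
    ∃ w : ↥W.left, p.left w = u ∧ AlgSp.Points.ofPt d w = x' := by
  rw [AlgSp.Points.ofPt_eq_map_ofScheme] at hx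
  obtain ⟨z, hz1, hz2⟩ := AlgSpB.exists_of_isPullback sq _ _ hx.symm
  refine ⟨AlgSp.Points.toScheme W z, ?_, ?_⟩
  · rw [← AlgSp.Points.toScheme_ofPt, AlgSp.Points.ofPt_eq_map_ofScheme, AlgSp.Points.ofScheme_toScheme, hz1,
      AlgSp.Points.toScheme_ofScheme]
  · rw [AlgSp.Points.ofPt_eq_map_ofScheme, AlgSp.Points.ofScheme_toScheme, hz2]

/-- Change of the base field: geometric reducedness at `p w` over `k` and at `w` over `K`. -/
theorem isGeomReducedAt_tower_iff (K : Type u) [Field K] [Algebra k K] {U W : Over Sk} (p : W ⟶ U)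
    (q : W ⟶ Over.mk (Spec.map (CommRingCat.ofHom (algebraMap k K))))
    (sq : IsPullback p.left q.left U.hom (Spec.map (CommRingCat.ofHom (algebraMap k K)))) (w : ↥W.left) :
    FBase.IsGeomReducedAt U.hom (p.left w) ↔ FBase.IsGeomReducedAt q.left w := by
  have h2 := isGeomReducedAt_etale_iff (k := K) sq.isoPullback.hom (FBase.bcStr U.hom K) q.left
    sq.isoPullback_hom_snd w
  refine Iff.trans ?_ h2.symm
  letI : U.left.Over Sk := ⟨U.hom⟩
  refine S1545.result k U.left K (p.left w) (sq.isoPullback.hom w) ?_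
  have e := congrArg (fun φ : W.left ⟶ U.left => φ w) sq.isoPullback_hom_fst
  exact (Scheme.Hom.comp_apply _ _ _).symm.trans e

theorem isReduced_stalk_bc_iff (K : Type u) [Field K] [Algebra k K] {U W : Over Sk} (p : W ⟶ U)
    (q : W ⟶ Over.mk (Spec.map (CommRingCat.ofHom (algebraMap k K))))
    (sq : IsPullback p.left q.left U.hom (Spec.map (CommRingCat.ofHom (algebraMap k K)))) :
    (∀ w : ↥W.left, _root_.IsReduced (W.left.presheaf.stalk w)) ↔
      ∀ y : ↥(FBase.bc U.hom K), _root_.IsReduced ((FBase.bc U.hom K).presheaf.stalk y) := by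
  let e : W.left ≅ FBase.bc U.hom K := sq.isoPullback
  refine ⟨fun h y => ?_, fun h w => (AlgSpD.isReduced_stalk_iff e.hom w).2 (h _)⟩
  exact (AlgSpD.isReduced_stalk_iff e.inv y).2 (h _)

end Space

end Groth.Agent.GeomRedSp
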